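import Cfsg.Agent.FGSA.AbelianSylowLength
import Cfsg.Agent.ZJ.Transvection
import Cfsg.Agent.ZJ.Involve
import Cfsg.Agent.Solvable.Fitting

/-!
A cyclic normal subgroup of a Sylow `p`-subgroup of a `p`-soluble group lies in `O_{p',p}`
(`p` odd, or no section isomorphic to the symmetric group of degree 4).
-/

set_option autoImplicit false
set_option linter.style.haveILetI false

namespace CfsgLib.PSoluble

open Subgroup

universe u

variable {Y : Type u} [Group Y] [Finite Y] {p : ℕ} [hp : Fact p.Prime]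

/-- The kernel of the action on the Frattini quotient of the `p`-core is the `p`-core. -/
theorem centralizer_frattini_quotient_le (h0 : Cfsg.pPrimeCore p Y = ⊥) (hs : Cfsg.IsPSolvable p Y)
    {F Φ : Subgroup Y} [Φ.Normal] (hF : F = Cfsg.pCore p Y) (hΦ : Φ = (frattini F).map F.subtype) :
    (centralizer ((F.map (QuotientGroup.mk' Φ) : Subgroup (Y ⧸ Φ)) : Set (Y ⧸ Φ))).comap
      (QuotientGroup.mk' Φ) ≤ F := by
  classical
  haveI hFn : F.Normal := hF ▸ CfsgLib.Solvable.pCore_normal p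
  have hFp : IsPGroup p F := hF ▸ CfsgLib.Solvable.isPGroup_pCore p
  set π := QuotientGroup.mk' Φ with hπ
  haveI : (F.map π).Normal := Subgroup.Normal.map inferInstance π (QuotientGroup.mk'_surjective Φ)
  set C0 := (centralizer ((F.map π : Subgroup (Y ⧸ Φ)) : Set (Y ⧸ Φ))).comap π with hC0
  haveI : C0.Normal := Subgroup.Normal.comap Subgroup.normal_centralizer π
  suffices hgroup : IsPGroup p C0 from hF ▸ CfsgLib.Solvable.le_pCore p inferInstance hgroup
  intro c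
  obtain ⟨k, r, hr, hr'⟩ :=
    Nat.exists_eq_pow_mul_and_not_dvd (orderOf_pos (c : Y)).ne' p hp.out.ne_one
  refine ⟨k, Subtype.ext ?_⟩
  show (c : Y) ^ p ^ k = 1
  set d := (c : Y) ^ p ^ k with hd
  have hdo : orderOf d = r := by
    rw [hd, orderOf_pow_of_dvd (pow_ne_zero _ hp.out.pos.ne') ⟨r, hr'⟩, hr',
      Nat.mul_div_cancel_left _ (pow_pos hp.out.pos _)]
  have hdC : zpowers d ≤ C0 := by rw [zpowers_le]; exact pow_mem c.2 _
  have hdn : zpowers d ≤ normalizer (F : Set Y) := by rw [Subgroup.normalizer_eq_top]; exact le_top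
  have hcopF : (Nat.card (zpowers d)).Coprime (Nat.card (frattini F)) := by
    rw [Nat.card_zpowers, hdo]
    obtain ⟨j, hj⟩ := IsPGroup.iff_card.1 (hFp.to_subgroup (frattini F))
    rw [hj]
    exact ((hp.out.coprime_iff_not_dvd.2 hr).symm).pow_right j
  have hcen := CfsgLib.CoprimeAct.trivial_on_frattini_quotient hdn hcopF (fun a ha f hf => by
    rw [← hΦ, ← QuotientGroup.eq_one_iff]
    show π (a * f * a⁻¹ * f⁻¹) = 1
    rw [map_mul, map_mul, map_mul, map_inv, map_inv,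
      ← mem_centralizer_iff.1 (hdC ha) (π f) ⟨f, hf, rfl⟩, mul_inv_cancel_right, mul_inv_cancel])
  have hdF : d ∈ F := by
    have := CfsgLib.PConstrained.selfCent_of_pSolvable h0
      (CfsgLib.PConstrained.isPSolvable_comap (Subgroup.subtype _) (Subgroup.subtype_injective _) hs)
      ((hF ▸ hcen) (mem_zpowers d))
    exact hF ▸ this
  obtain ⟨j, hj⟩ := IsPGroup.iff_orderOf.1 hFp ⟨d, hdF⟩
  rw [Subgroup.orderOf_mk, hdo] at hj
  rw [← orderOf_eq_one_iff, hdo]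
  rcases Nat.eq_zero_or_pos j with rfl | hj0
  · simpa using hj
  · exact absurd (hj ▸ dvd_pow_self p hj0.ne') hr

omit [Finite Y] hp in
theorem mul_pow_of_conj {G : Type*} [Group G] {v a d : G} (hd : a * v * a⁻¹ = v * d)
    (hvd : Commute v d) (had : Commute a d) :
    ∀ n : ℕ, (v * a) ^ n = v ^ n * d ^ (∑ i ∈ Finset.range n, i) * a ^ n := by
  have hpow : ∀ n : ℕ, a ^ n * v * (a ^ n)⁻¹ = v * d ^ n := by
    intro n
    induction n with
    | zero => simp
    | succ n ih =>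
      calc a ^ (n + 1) * v * (a ^ (n + 1))⁻¹ = a * (a ^ n * v * (a ^ n)⁻¹) * a⁻¹ := by
            rw [pow_succ']; group
        _ = (a * v * a⁻¹) * (a * d ^ n * a⁻¹) := by rw [ih]; group
        _ = v * d * d ^ n := by rw [hd, (had.pow_right n).eq, mul_inv_cancel_right]
        _ = v * d ^ (n + 1) := by rw [mul_assoc, ← pow_succ']
  intro n
  induction n with
  | zero => simp
  | succ n ih =>
    rw [pow_succ (v * a), ih, Finset.sum_range_succ]
    calc v ^ n * d ^ (∑ i ∈ Finset.range n, i) * a ^ n * (v * a)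
        = v ^ n * d ^ (∑ i ∈ Finset.range n, i) * (a ^ n * v * (a ^ n)⁻¹) * (a ^ n * a) := by group
      _ = v ^ n * (d ^ (∑ i ∈ Finset.range n, i) * v) * d ^ n * a ^ (n + 1) := by
          rw [hpow, pow_succ a]; group
      _ = v ^ n * (v * d ^ (∑ i ∈ Finset.range n, i)) * d ^ n * a ^ (n + 1) := by
          rw [(hvd.pow_right _).eq]
      _ = v ^ (n + 1) * d ^ ((∑ i ∈ Finset.range n, i) + n) * a ^ (n + 1) := by
          rw [pow_succ v, pow_add d]; simp only [mul_assoc]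

/-- The core-free case. -/
theorem le_pCore_of_cyclic (h0 : Cfsg.pPrimeCore p Y = ⊥) (hs : Cfsg.IsPSolvable p Y)
    (hfree : p ≠ 2 ∨ ¬ Cfsg.Involves (Equiv.Perm (Fin 4)) Y) {A : Subgroup Y} (hA : IsCyclic A)
    (hAp : IsPGroup p A) (hFA : Cfsg.pCore p Y ≤ normalizer (A : Set Y)) : A ≤ Cfsg.pCore p Y := by
  classical
  by_contra hnot
  set F := Cfsg.pCore p Y with hF
  haveI hFn : F.Normal := CfsgLib.Solvable.pCore_normal p
  have hFp : IsPGroup p F := CfsgLib.Solvable.isPGroup_pCore p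
  obtain ⟨g, hg⟩ := (Subgroup.isCyclic_iff_exists_zpowers_eq_top A).1 hA
  have hgA : g ∈ A := hg ▸ mem_zpowers g
  obtain ⟨e, he⟩ := IsPGroup.iff_orderOf.1 hAp ⟨g, hgA⟩
  rw [Subgroup.orderOf_mk] at he
  have hgF : g ∉ F := fun h => hnot (hg ▸ zpowers_le.2 h)
  have hex : ∃ j, g ^ p ^ j ∈ F := ⟨e, by rw [← he, pow_orderOf_eq_one]; exact one_mem _⟩
  have hj0 : Nat.find hex ≠ 0 := fun h => hgF (by
    have := Nat.find_spec hex
    rwa [h, pow_zero, pow_one] at this)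
  obtain ⟨j, hj⟩ := Nat.exists_eq_succ_of_ne_zero hj0
  set a := g ^ p ^ j with ha
  have haF : a ∉ F := Nat.find_min hex (by omega)
  have hap : a ^ p = g ^ p ^ (j + 1) := by rw [ha, ← pow_mul, ← pow_succ]
  have hapF : a ^ p ∈ F := by
    rw [hap, ← Nat.succ_eq_add_one, ← hj]
    exact Nat.find_spec hex
  have hinA : ∀ w ∈ A, w ∈ F → ∃ i : ℕ, w = (a ^ p) ^ i := by
    intro w hwA hwF
    rw [← hg, ← mem_powers_iff_mem_zpowers] at hwA
    obtain ⟨i, rfl⟩ := hwA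
    rcases Nat.eq_zero_or_pos i with rfl | hi
    · exact ⟨0, by simp⟩
    obtain ⟨v, r, hr, rfl⟩ := Nat.exists_eq_pow_mul_and_not_dvd hi.ne' p hp.out.ne_one
    have hv : j + 1 ≤ v := by
      by_contra hlt
      refine Nat.find_min hex (m := v) (by omega) ?_
      obtain ⟨m, hm⟩ := exists_pow_eq_self_of_coprime (x := g ^ p ^ v) (n := r)
        (Nat.Coprime.coprime_dvd_right (orderOf_pow_dvd _) (by
          rw [he]; exact ((hp.out.coprime_iff_not_dvd.2 hr).symm).pow_right e))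
      rw [← hm, ← pow_mul g]
      exact pow_mem hwF m
    obtain ⟨c, rfl⟩ := Nat.exists_eq_add_of_le hv
    exact ⟨p ^ c * r, by rw [hap, ← pow_mul, pow_add, mul_assoc]⟩
  have haA : a ∈ A := pow_mem hgA _
  -- the Frattini quotient
  set Φ := (frattini F).map F.subtype with hΦ
  haveI hΦn : Φ.Normal := ConjAct.normal_of_characteristic_of_normal
  set π := QuotientGroup.mk' Φ with hπ
  set V := F.map π with hV
  haveI hVn : V.Normal := Subgroup.Normal.map inferInstance π (QuotientGroup.mk'_surjective Φ)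
  obtain ⟨hcom, hpow⟩ := CfsgLib.PGroupBasic.commutator_pow_le_frattini hFp
  have hVc : ∀ v ∈ V, ∀ w ∈ V, v * w = w * v := by
    rintro _ ⟨x, hx, rfl⟩ _ ⟨y, hy, rfl⟩
    rw [← mul_inv_eq_one, ← map_mul, ← map_mul, ← map_inv, ← map_mul]
    refine (QuotientGroup.eq_one_iff _).2
      ⟨(⟨x, hx⟩ : F) * ⟨y, hy⟩ * (⟨y, hy⟩ * ⟨x, hx⟩)⁻¹, hcom ?_, rfl⟩
    rw [_root_.commutator_def, mul_inv_rev, ← mul_assoc]
    exact commutator_mem_commutator (mem_top (⟨x, hx⟩ : F)) (mem_top (⟨y, hy⟩ : F))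
  have hVexp : ∀ v ∈ V, v ^ p = 1 := by
    rintro _ ⟨x, hx, rfl⟩
    rw [← map_pow]
    exact (QuotientGroup.eq_one_iff _).2 ⟨(⟨x, hx⟩ : F) ^ p, hpow _, rfl⟩
  have hC0 : (centralizer (V : Set (Y ⧸ Φ))).comap π ≤ F :=
    centralizer_frattini_quotient_le h0 hs rfl rfl
  set α := π a with hα
  set w0 := π (a ^ p) with hw0
  have hw0V : w0 ∈ V := mem_map_of_mem π hapF
  have hδ : ∀ v ∈ V, ∃ i : ℕ, α * v * α⁻¹ = v * w0 ^ i := by
    rintro _ ⟨f, hf, rfl⟩
    obtain ⟨i, hi⟩ := hinA (f⁻¹ * (a * f * a⁻¹)) (by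
        rw [show f⁻¹ * (a * f * a⁻¹) = (f⁻¹ * a * f) * a⁻¹ by group]
        exact mul_mem ((Subgroup.mem_normalizer_iff''.1 (hFA hf) a).1 haA) (inv_mem haA))
      (mul_mem (inv_mem hf) (hFn.conj_mem f hf a))
    exact ⟨i, by rw [hα, hw0, ← map_inv, ← map_mul, ← map_mul, ← map_pow, ← map_mul, ← hi,
      mul_inv_cancel_left]⟩
  have hαw : Commute α w0 := by
    rw [hα, hw0, map_pow]
    exact (Commute.self_pow (π a) p)
  -- the group `Y ⧸ F`
  set φ := QuotientGroup.mk' F with hφ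
  have hH0 : Cfsg.pCore p (Y ⧸ F) = ⊥ := by
    have hle : (Cfsg.pCore p (Y ⧸ F)).comap φ ≤ F :=
      CfsgLib.Solvable.le_pCore p ((CfsgLib.Solvable.pCore_normal p).comap φ)
        ((CfsgLib.Solvable.isPGroup_pCore p).comap_of_ker_isPGroup φ (by
          rw [QuotientGroup.ker_mk']; exact hFp))
    rw [← map_comap_eq_self_of_surjective (QuotientGroup.mk'_surjective F) (Cfsg.pCore p (Y ⧸ F)),
      Subgroup.map_eq_bot_iff, QuotientGroup.ker_mk']
    exact hle
  by_cases hp2 : p = 2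
  · subst hp2
    refine hfree.resolve_left (fun h => h rfl) (ZJ.involves_of_quotient Φ
      (ZJ.involves_s4_of_transvection V hVc ?_ (a := α) (w0 := w0) ?_ hw0V ?_ ?_ ?_))
    · set C := centralizer (V : Set (Y ⧸ Φ)) with hC
      set ρ := (QuotientGroup.mk' C).comp π with hρ
      have hρs : Function.Surjective ρ :=
        (QuotientGroup.mk'_surjective C).comp (QuotientGroup.mk'_surjective Φ)
      have hker : ρ.ker ≤ F := fun x hx => hC0 (Subgroup.mem_comap.2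
        ((QuotientGroup.eq_one_iff _).1 hx))
      have hle : (Cfsg.pCore 2 ((Y ⧸ Φ) ⧸ C)).comap ρ ≤ F :=
        CfsgLib.Solvable.le_pCore 2 ((CfsgLib.Solvable.pCore_normal 2).comap ρ)
          ((CfsgLib.Solvable.isPGroup_pCore 2).comap_of_ker_isPGroup ρ (hFp.to_le hker))
      rw [← map_comap_eq_self_of_surjective hρs (Cfsg.pCore 2 ((Y ⧸ Φ) ⧸ C)),
        Subgroup.map_eq_bot_iff]
      intro x hx
      rw [MonoidHom.mem_ker]
      refine (QuotientGroup.eq_one_iff _).2 ?_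
      exact mem_centralizer_iff.2 fun v hv => hVc v hv _ (mem_map_of_mem π (hle hx))
    · exact fun hc => haF (hC0 (Subgroup.mem_comap.2 hc))
    · rw [← pow_two]; exact hVexp _ hw0V
    · exact mul_inv_eq_iff_eq_mul.2 hαw.eq
    · intro v hv
      obtain ⟨i, hi⟩ := hδ v hv
      rcases Nat.even_or_odd' i with ⟨c, rfl | rfl⟩
      · left; rw [hi, pow_mul, hVexp _ hw0V, one_pow, mul_one]
      · right; rw [hi, pow_succ, pow_mul, hVexp _ hw0V, one_pow, one_mul]
  -- `p` odd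
  have hsum : ∀ d : Y ⧸ Φ, d ^ p = 1 → d ^ (∑ i ∈ Finset.range p, i) = 1 := by
    intro d hd
    obtain ⟨c, hc⟩ : p ∣ ∑ i ∈ Finset.range p, i := by
      have h2 := Finset.sum_range_id_mul_two p
      exact ((Nat.coprime_primes hp.out Nat.prime_two).2 hp2).dvd_of_dvd_mul_right ⟨p - 1, h2⟩
    rw [hc, pow_mul, hd, one_pow]
  have hpw : ∀ v ∈ V, (v * α) ^ p = w0 := by
    intro v hv
    obtain ⟨i, hi⟩ := hδ v hv
    rw [mul_pow_of_conj hi (Commute.pow_right (hVc v hv w0 hw0V) i) (hαw.pow_right i), hVexp v hv,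
      hsum _ (by rw [← pow_mul, mul_comm, pow_mul, hVexp _ hw0V, one_pow]), one_mul, one_mul,
      hw0, map_pow]
  set R := Cfsg.pPrimeCore p (Y ⧸ F) with hR
  haveI hRn : R.Normal := CfsgLib.Solvable.pPrimeCore_normal p
  have hRc : (Nat.card R).Coprime p := CfsgLib.Solvable.coprime_card_pPrimeCore p
  have hxp : IsPGroup p (zpowers a) := hAp.to_le (zpowers_le.2 haA)
  obtain ⟨jx, hjx⟩ := IsPGroup.iff_card.1 (hxp.map φ)
  have hnC : φ a ∉ centralizer (R : Set (Y ⧸ F)) := by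
    intro hmem
    have hR' := FGSA.AbelianSylow.centralizer_pPrimeCore_le hH0
      (CfsgLib.PConstrained.isPSolvable_map φ (QuotientGroup.mk'_surjective F) hs) hmem
    have h3 : φ a ∈ (zpowers a).map φ ⊓ R := ⟨mem_map_of_mem φ (mem_zpowers a), hR'⟩
    rw [Subgroup.inf_eq_bot_of_coprime (by rw [hjx]; exact hRc.symm.pow_left jx)] at h3
    exact haF ((QuotientGroup.eq_one_iff _).1 h3)
  have hAR : (zpowers a).map φ ≤ normalizer (R : Set (Y ⧸ F)) := by
    rw [Subgroup.normalizer_eq_top]; exact le_top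
  have hcop : (Nat.card ((zpowers a).map φ)).Coprime (Nat.card R) := by
    rw [hjx]; exact hRc.symm.pow_left jx
  have hsolA : Group.IsSolvable ((zpowers a).map φ : Subgroup (Y ⧸ F)) := by
    haveI : Group.IsNilpotent ((zpowers a).map φ : Subgroup (Y ⧸ F)) := (hxp.map φ).isNilpotent
    infer_instance
  have hinv : ∀ q : Nat.Primes, ∃ P : Sylow (q : ℕ) R,
      (zpowers a).map φ ≤ normalizer ((P : Subgroup R).map R.subtype : Set (Y ⧸ F)) := fun q => by
    haveI := Fact.mk q.2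
    exact CfsgLib.CoprimeAct.exists_invariant_sylow hAR hcop (Or.inl hsolA) (q : ℕ)
  choose Ps hPs using hinv
  obtain ⟨q, r, hr, hrq⟩ : ∃ (q : Nat.Primes) (r : Y ⧸ F), r ∈ (Ps q : Subgroup R).map R.subtype ∧
      ¬ Commute (φ a) r := by
    by_contra! hall
    refine hnC (mem_centralizer_iff.2 fun r hr => ?_)
    have hle : R ≤ centralizer ({φ a} : Set (Y ⧸ F)) := by
      have htop : (⨆ q : Nat.Primes, (Ps q : Subgroup R)) = ⊤ := CfsgLib.Solvable.iSup_sylow_eq_top Ps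
      conv_lhs => rw [← Subgroup.range_subtype R, MonoidHom.range_eq_map, ← htop, Subgroup.map_iSup]
      exact iSup_le fun q r hr => mem_centralizer_singleton_iff.2 (hall q r hr).eq.symm
    exact mem_centralizer_singleton_iff.1 (hle hr)
  haveI := Fact.mk q.2
  set Q := (Ps q : Subgroup R).map R.subtype with hQ
  have hqp : (q : ℕ) ≠ p := by
    intro hqp
    obtain ⟨k, hk⟩ := IsPGroup.iff_card.1 ((Ps q).2.map R.subtype)
    have h1 : Nat.card Q ∣ Nat.card R := by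
      rw [hQ, card_map_of_injective R.subtype_injective]
      exact card_subgroup_dvd_card _
    have h2 : Nat.card Q = 1 :=
      Nat.eq_one_of_dvd_coprimes (hRc.pow_right k) h1 (dvd_of_eq (hk.trans (congrArg (· ^ k) hqp)))
    rw [Subgroup.eq_bot_of_card_eq Q h2, mem_bot] at hr
    subst hr
    exact hrq (Commute.one_right _)
  -- a `q`-Sylow subgroup over `Q`
  set L := Q.comap φ with hL
  obtain ⟨S⟩ : Nonempty (Sylow (q : ℕ) L) := inferInstance
  set Q0 := (S : Subgroup L).map L.subtype with hQ0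
  have hQ0q : IsPGroup (q : ℕ) Q0 := S.2.map _
  obtain ⟨eq0, heq0⟩ := IsPGroup.iff_card.1 hQ0q
  have hQp : IsPGroup (q : ℕ) Q := (Ps q).2.map _
  have hFQ0 : ∀ x ∈ F, x ∈ Q0 → x = 1 := by
    intro x hxF hxQ
    obtain ⟨k, hk⟩ := IsPGroup.iff_orderOf.1 hFp ⟨x, hxF⟩
    rw [Subgroup.orderOf_mk] at hk
    exact orderOf_eq_one_iff.1 (Nat.eq_one_of_dvd_coprimes
      (((Nat.coprime_primes hp.out q.2).2 (Ne.symm hqp)).pow k eq0) (hk ▸ dvd_rfl)
      (heq0 ▸ Subgroup.orderOf_dvd_natCard Q0 hxQ))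
  have hdec : ∀ l ∈ L, ∃ f ∈ F, ∃ k ∈ Q0, l = f * k := by
    intro l hl
    let f : L →* Q := φ.subgroupComap Q
    have hf : Function.Surjective f := by
      rintro ⟨x, hx⟩
      obtain ⟨y, rfl⟩ := QuotientGroup.mk'_surjective F x
      exact ⟨⟨y, hx⟩, rfl⟩
    have hmapS : (S : Subgroup L).map f = ⊤ := by
      rw [← Subgroup.index_eq_one]
      obtain ⟨n, hn⟩ := IsPGroup.iff_card.1 hQp
      obtain ⟨i, -, hi⟩ := (Nat.dvd_prime_pow q.2).1
        (hn ▸ Subgroup.index_dvd_card ((S : Subgroup L).map f))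
      rcases Nat.eq_zero_or_pos i with h | h
      · rw [hi, h, pow_zero]
      · exact absurd ((dvd_pow_self (q : ℕ) h.ne').trans
          (hi ▸ Subgroup.index_map_dvd (S : Subgroup L) hf)) S.not_dvd_index
    obtain ⟨k, hk, hkl⟩ : f ⟨l, hl⟩ ∈ (S : Subgroup L).map f := hmapS ▸ mem_top _
    refine ⟨l * (k : Y)⁻¹, ?_, k, ⟨k, hk, rfl⟩, (inv_mul_cancel_right _ _).symm⟩
    rw [← QuotientGroup.eq_one_iff]
    show φ (l * (k : Y)⁻¹) = 1
    rw [map_mul, map_inv, ← show φ (k : Y) = φ l from congrArg Subtype.val hkl, mul_inv_cancel]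
  obtain ⟨a', hφa, hπa, hnorm⟩ : ∃ a' : Y, φ a' = φ a ∧ (∃ v ∈ V, π a' = v * α) ∧
      ∀ k ∈ Q0, a' * k * a'⁻¹ ∈ Q0 := by
    have haL : a ∈ normalizer (L : Set Y) :=
      Subgroup.le_normalizer_comap φ (hPs q (mem_map_of_mem φ (mem_zpowers a)))
    have hLF : F ≤ L := fun x hx => by
      rw [hL, Subgroup.mem_comap, show φ x = 1 from (QuotientGroup.eq_one_iff x).2 hx]
      exact one_mem _
    let c : MulAut L :=
      { toFun := fun x => ⟨a * x * a⁻¹, (Subgroup.mem_normalizer_iff.1 haL x).1 x.2⟩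
        invFun := fun x => ⟨a⁻¹ * x * a, (Subgroup.mem_normalizer_iff''.1 haL x).1 x.2⟩
        left_inv := fun x => Subtype.ext (by simp [mul_assoc])
        right_inv := fun x => Subtype.ext (by simp [mul_assoc])
        map_mul' := fun x y => Subtype.ext (by simp [mul_assoc]) }
    obtain ⟨l, hlS⟩ := MulAction.exists_smul_eq L S (S.mapSurjective (f := c.toMonoidHom) c.surjective)
    obtain ⟨f, hf, k₀, hk₀, hl⟩ := hdec (l : Y) l.2
    refine ⟨f⁻¹ * a, ?_, ⟨π f⁻¹, mem_map_of_mem π (inv_mem hf), by rw [map_mul]⟩, fun k hk => ?_⟩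
    · rw [map_mul, show φ f⁻¹ = 1 from (QuotientGroup.eq_one_iff _).2 (inv_mem hf), one_mul]
    obtain ⟨k', hk', rfl⟩ := hk
    have h1 : c k' ∈ ((l • S : Sylow (q : ℕ) L) : Subgroup L) := by
      rw [hlS]
      exact ⟨k', hk', rfl⟩
    rw [Sylow.coe_subgroup_smul, Subgroup.mem_pointwise_smul_iff_inv_smul_mem, MulAut.smul_def,
      MulAut.inv_def, MulAut.conj_symm_apply] at h1
    have h2 : k₀⁻¹ * f⁻¹ * (a * (k' : Y) * a⁻¹) * (f * k₀) ∈ Q0 := by
      refine ⟨_, h1, ?_⟩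
      simp only [Subgroup.coe_subtype, Subgroup.coe_mul, Subgroup.coe_inv]
      rw [hl, mul_inv_rev]
      rfl
    have h3 := mul_mem (mul_mem hk₀ h2) (inv_mem hk₀)
    rw [show f⁻¹ * a * L.subtype k' * (f⁻¹ * a)⁻¹ =
      k₀ * (k₀⁻¹ * f⁻¹ * (a * (k' : Y) * a⁻¹) * (f * k₀)) * k₀⁻¹ by
        rw [Subgroup.coe_subtype]; group]
    exact h3
  obtain ⟨v0, hv0, hπa'⟩ := hπa
  have hw0a : π (a' ^ p) = w0 := by rw [map_pow, hπa', hpw v0 hv0]
  have hapF' : a' ^ p ∈ F := by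
    rw [← QuotientGroup.eq_one_iff]
    show φ (a' ^ p) = 1
    rw [map_pow, hφa, ← map_pow]
    exact (QuotientGroup.eq_one_iff _).2 hapF
  have hnormp : ∀ n : ℕ, ∀ k ∈ Q0, a' ^ n * k * (a' ^ n)⁻¹ ∈ Q0 := by
    intro n
    induction n with
    | zero => intro k hk; simpa using hk
    | succ n ih =>
      intro k hk
      rw [show a' ^ (n + 1) * k * (a' ^ (n + 1))⁻¹ = a' * (a' ^ n * k * (a' ^ n)⁻¹) * a'⁻¹ by
        rw [pow_succ']; group]
      exact hnorm _ (ih k hk)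
  have hQw : ∀ k ∈ Q0, Commute (π k) w0 := by
    intro k hk
    have h1 : a' ^ p * k * (a' ^ p)⁻¹ * k⁻¹ = 1 := hFQ0 _ (by
        rw [show a' ^ p * k * (a' ^ p)⁻¹ * k⁻¹ = a' ^ p * (k * (a' ^ p)⁻¹ * k⁻¹) by group]
        exact mul_mem hapF' (hFn.conj_mem _ (inv_mem hapF') k))
      (mul_mem (hnormp p k hk) (inv_mem hk))
    have h2 : Commute (a' ^ p) k := mul_inv_eq_iff_eq_mul.1 (mul_inv_eq_one.1 h1)
    rw [← hw0a]
    exact (h2.map π).symm
  have hact : ∀ v ∈ V, ∃ i : ℕ, π a' * v * (π a')⁻¹ = v * w0 ^ i := by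
    intro v hv
    obtain ⟨i, hi⟩ := hδ v hv
    refine ⟨i, ?_⟩
    rw [hπa', show v0 * α * v * (v0 * α)⁻¹ = v0 * (α * v * α⁻¹) * v0⁻¹ by group, hi,
      hVc v0 hv0 _ (mul_mem hv (pow_mem hw0V i)), mul_inv_cancel_right]
  refine hrq ?_
  obtain ⟨x, rfl⟩ := QuotientGroup.mk'_surjective F r
  obtain ⟨f, hf, k, hk, rfl⟩ := hdec x (Subgroup.mem_comap.2 hr)
  set σ := a' * k * a'⁻¹ * k⁻¹ with hσ
  have hσQ : σ ∈ Q0 := mul_mem (hnorm k hk) (inv_mem hk)
  have hσV : ∀ v ∈ V, ∃ e ∈ zpowers w0, π σ * v * (π σ)⁻¹ = v * e := by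
    intro v hv
    have hv1 : (π k)⁻¹ * v * π k ∈ V := by
      simpa using hVn.conj_mem v hv (π k)⁻¹
    obtain ⟨i₁, hi₁⟩ := hact _ hv1
    -- undo `a'` at the start
    have hv2 : π a' ⁻¹ * ((π k)⁻¹ * v * π k) * π a' ∈ V := by
      simpa using hVn.conj_mem _ hv1 (π a')⁻¹
    obtain ⟨i₂, hi₂⟩ := hact _ hv2
    have e1 : π a' ⁻¹ * ((π k)⁻¹ * v * π k) * π a' = (π k)⁻¹ * v * π k * (w0 ^ i₂)⁻¹ := by
      rw [eq_mul_inv_iff_mul_eq, ← hi₂]
      simp [mul_assoc]
    have e2 : π k * (π a' ⁻¹ * ((π k)⁻¹ * v * π k) * π a') * (π k)⁻¹ = v * (w0 ^ i₂)⁻¹ := by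
      rw [e1]
      have hc : Commute (π k) ((w0 ^ i₂)⁻¹) := ((hQw k hk).pow_right i₂).inv_right
      calc π k * ((π k)⁻¹ * v * π k * (w0 ^ i₂)⁻¹) * (π k)⁻¹
          = v * (π k * (w0 ^ i₂)⁻¹ * (π k)⁻¹) := by group
        _ = v * (w0 ^ i₂)⁻¹ := by rw [hc.eq, mul_inv_cancel_right]
    obtain ⟨i₃, hi₃⟩ := hact _ (mul_mem hv (inv_mem (pow_mem hw0V i₂)))
    refine ⟨(w0 ^ i₂)⁻¹ * w0 ^ i₃, mul_mem (inv_mem (pow_mem (mem_zpowers w0) _))
      (pow_mem (mem_zpowers w0) _), ?_⟩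
    rw [← mul_assoc, ← hi₃, ← e2, hσ, map_mul, map_mul, map_mul, map_inv, map_inv]
    group
  have hσfix : ∀ v ∈ V, π σ * v * (π σ)⁻¹ = v := by
    intro v hv
    obtain ⟨e, he', hve⟩ := hσV v hv
    have hce : Commute (π σ) e := by
      obtain ⟨i, rfl⟩ := he'
      exact (hQw σ hσQ).zpow_right i
    have hiter : ∀ n : ℕ, (π σ) ^ n * v * ((π σ) ^ n)⁻¹ = v * e ^ n := by
      intro n
      induction n with
      | zero => simp
      | succ n ih =>
        calc (π σ) ^ (n + 1) * v * ((π σ) ^ (n + 1))⁻¹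
            = π σ * ((π σ) ^ n * v * ((π σ) ^ n)⁻¹) * (π σ)⁻¹ := by rw [pow_succ']; group
          _ = (π σ * v * (π σ)⁻¹) * (π σ * e ^ n * (π σ)⁻¹) := by rw [ih]; group
          _ = v * e * e ^ n := by rw [hve, (hce.pow_right n).eq, mul_inv_cancel_right]
          _ = v * e ^ (n + 1) := by rw [mul_assoc, ← pow_succ']
    have h1 := hiter (Nat.card Q0)
    rw [← map_pow, show σ ^ Nat.card Q0 = 1 from
      congrArg Subtype.val (pow_card_eq_one' (x := (⟨σ, hσQ⟩ : Q0))), map_one] at h1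
    simp only [one_mul, inv_one, mul_one] at h1
    have he1 : e ^ Nat.card Q0 = 1 := by
      have := h1.symm
      rwa [mul_eq_left] at this
    have hep : e ^ p = 1 := hVexp e (zpowers_le.2 hw0V he')
    have he0 : e = 1 := orderOf_eq_one_iff.1 (Nat.eq_one_of_dvd_coprimes
      (heq0 ▸ (((Nat.coprime_primes hp.out q.2).2 (Ne.symm hqp)).pow_right eq0))
      (orderOf_dvd_of_pow_eq_one hep) (orderOf_dvd_of_pow_eq_one he1))
    rw [hve, he0, mul_one]
  have hσ1 : σ = 1 := hFQ0 σ (hC0 (Subgroup.mem_comap.2 (mem_centralizer_iff.2 fun v hv =>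
    (mul_inv_eq_iff_eq_mul.1 (hσfix v hv)).symm))) hσQ
  have hc : Commute a' k := mul_inv_eq_iff_eq_mul.1 (mul_inv_eq_one.1 hσ1)
  rw [map_mul, show φ f = 1 from (QuotientGroup.eq_one_iff f).2 hf, one_mul, ← hφa]
  exact hc.map φ

end CfsgLib.PSoluble
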