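import Cfsg.Agent.FGSA.AbelianSylowLength
import Cfsg.Agent.Solvable.CoprimeAbelian
import Cfsg.Agent.Transfer.PResidual

/-!
A `p`-subgroup outside the `p`-core of a `p`-soluble group and a conjugate generating a group with
large `O^p`.
-/

set_option autoImplicit false
set_option linter.style.haveILetI false

namespace CfsgLib.PSoluble.TwoConj

open Subgroup

universe u

variable {Y : Type u} [Group Y] [Finite Y] {p : ℕ} [hp : Fact p.Prime]

omit [Finite Y] hp in
theorem conjmap_le_of_mem {L A : Subgroup Y} {x : Y} (hA : A ≤ L) (hx : x ∈ L) :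
    A.map (MulAut.conj x).toMonoidHom ≤ L := by
  rintro _ ⟨a, ha, rfl⟩
  exact mul_mem (mul_mem hx (hA ha)) (inv_mem hx)

/-- A hyperplane of an elementary abelian operator group with a centralizer moved by the group. -/
theorem exists_hyperplane {A K : Subgroup Y} (hAc : ∀ a ∈ A, ∀ b ∈ A, Commute a b)
    (hAe : ∀ a ∈ A, a ^ p = 1) (hAK : A ≤ normalizer (K : Set Y))
    (hKco : (Nat.card K).Coprime p) {k₀ : Y} (hk₀ : k₀ ∈ K) {a₀ : Y} (ha₀ : a₀ ∈ A)
    (hne : ¬ Commute a₀ k₀) :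
    ∃ B ≤ A, B.relIndex A = p ∧ ∃ k ∈ K, (∀ b ∈ B, Commute b k) ∧ ∃ a ∈ A, ¬ Commute a k := by
  classical
  have hpr : p.Prime := hp.out
  obtain ⟨B, hBspec, hBmax⟩ := Set.Finite.exists_maximal
    (Set.toFinite {B : Subgroup Y | B ≤ A ∧ ∃ k ∈ K, (∀ b ∈ B, Commute b k) ∧ ∃ a ∈ A, ¬ Commute a k})
    ⟨⊥, bot_le, k₀, hk₀, fun b hb => by rw [mem_bot.1 hb]; exact Commute.one_left _, a₀, ha₀, hne⟩
  obtain ⟨hBA, k, hk, hBk, a, ha, hak⟩ := hBspec
  refine ⟨B, hBA, ?_, k, hk, hBk, a, ha, hak⟩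
  have haB : a ∉ B := fun h => hak (hBk a h)
  have hord : ∀ e ∈ A, e ≠ 1 → orderOf e = p := fun e he he1 => orderOf_eq_prime (hAe e he) he1
  have hA : A = B ⊔ zpowers a := by
    refine le_antisymm (fun a' ha' => ?_) (sup_le hBA (zpowers_le.2 ha))
    by_contra hnot
    set E := zpowers a ⊔ zpowers a' with hE
    have hEA : E ≤ A := sup_le (zpowers_le.2 ha) (zpowers_le.2 ha')
    haveI : IsMulCommutative E := ⟨⟨fun u v => Subtype.ext (hAc u (hEA u.2) v (hEA v.2)).eq⟩⟩
    have hcompA : B ⊔ zpowers a ≤ A := sup_le hBA (zpowers_le.2 ha)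
    have hmemsup : ∀ e ∈ E, e ∈ B → e = 1 := by
      intro e he heB
      obtain ⟨u, hu, v, hv, rfl⟩ : ∃ u ∈ zpowers a, ∃ v ∈ zpowers a', u * v = e := by
        have hN : zpowers a ≤ normalizer ((zpowers a' : Subgroup Y) : Set Y) :=
          le_trans (fun u hu => Subgroup.mem_centralizer_iff.2 fun v hv =>
            (hAc v (zpowers_le.2 ha' hv) u (zpowers_le.2 ha hu)).eq)
            (Subgroup.centralizer_le_normalizer _)
        have : e ∈ ((zpowers a ⊔ zpowers a' : Subgroup Y) : Set Y) := he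
        rw [Subgroup.coe_mul_of_left_le_normalizer_right _ _ hN] at this
        exact Set.mem_mul.1 this
      by_cases hv1 : v = 1
      · subst hv1
        rw [mul_one] at heB ⊢
        by_contra hu1
        obtain ⟨i, rfl⟩ := hu
        have h1 : zpowers (a ^ i) = zpowers a := Subgroup.eq_of_le_of_card_ge
          (zpowers_le.2 (zpow_mem (mem_zpowers a) i)) (by
          rw [Nat.card_zpowers, Nat.card_zpowers, hord a ha (fun h => haB (h ▸ one_mem _)),
            hord _ (zpow_mem ha i) hu1])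
        exact haB (zpowers_le.2 heB (h1 ▸ mem_zpowers a))
      · exfalso
        refine hnot ?_
        have hvmem : v ∈ B ⊔ zpowers a := by
          rw [show v = u⁻¹ * (u * v) by group]
          exact mul_mem (mem_sup_right (inv_mem hu)) (mem_sup_left heB)
        obtain ⟨i, rfl⟩ := hv
        have h1 : zpowers (a' ^ i) = zpowers a' := Subgroup.eq_of_le_of_card_ge
          (zpowers_le.2 (zpow_mem (mem_zpowers a') i)) (by
          rw [Nat.card_zpowers, Nat.card_zpowers,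
            hord a' ha' (fun h => hv1 (by simp [h])), hord _ (zpow_mem ha' i) hv1])
        exact zpowers_le.2 hvmem (h1 ▸ mem_zpowers a')
    have hnc : ¬ IsCyclic E := by
      intro hc
      obtain ⟨g, hg⟩ := (Subgroup.isCyclic_iff_exists_zpowers_eq_top E).1 hc
      have haE : a ∈ E := mem_sup_left (mem_zpowers a)
      have ha'E : a' ∈ E := mem_sup_right (mem_zpowers a')
      have h1 : zpowers a = E := Subgroup.eq_of_le_of_card_ge le_sup_left (by
        rw [← hg, Nat.card_zpowers, Nat.card_zpowers, hord a ha (fun h => haB (h ▸ one_mem _))]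
        exact Nat.le_of_dvd hpr.pos (orderOf_dvd_of_pow_eq_one
          (hAe g (hEA (hg ▸ mem_zpowers g)))))
      exact hnot (mem_sup_right (h1 ▸ ha'E))
    set K1 := K ⊓ centralizer (B : Set Y) with hK1
    have hEK : E ≤ normalizer (K1 : Set Y) := by
      have hf : ∀ e ∈ E, ∀ y ∈ K1, e * y * e⁻¹ ∈ K1 := by
        intro e he y hy
        obtain ⟨h1, h2⟩ := Subgroup.mem_inf.1 hy
        refine Subgroup.mem_inf.2 ⟨(Subgroup.mem_normalizer_iff.1 (hAK (hEA he)) y).1 h1,
          Subgroup.mem_centralizer_iff.2 fun b hb => ?_⟩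
        have e1 : Commute b e := hAc b (hBA hb) e (hEA he)
        have e2 : Commute b y := Subgroup.mem_centralizer_iff.1 h2 b hb
        exact ((e1.mul_right e2).mul_right e1.inv_right).eq
      intro e he
      refine Subgroup.mem_normalizer_iff.2 fun y => ⟨hf e he y, fun hy => ?_⟩
      have := hf e⁻¹ (inv_mem he) _ hy
      simpa [mul_assoc] using this
    have hEp : IsPGroup p E := fun e => ⟨1, Subtype.ext (by simpa using hAe e (hEA e.2))⟩
    obtain ⟨n, hn⟩ := IsPGroup.iff_card.1 hEp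
    have hgen := CfsgLib.CoprimeAct.generated_by_centralizers hnc hEK (by
      rw [hn]; exact ((hKco.coprime_dvd_left (Subgroup.card_dvd_of_le inf_le_left)).pow_right n).symm)
    have hkK1 : k ∈ K1 := Subgroup.mem_inf.2 ⟨hk, Subgroup.mem_centralizer_iff.2 fun b hb => (hBk b hb).eq⟩
    have hall : K1 ≤ centralizer (A : Set Y) := by
      rw [← hgen]
      refine iSup₂_le fun e he y hy => ?_
      obtain ⟨heE, he1⟩ := he
      obtain ⟨hy1, hy2⟩ := Subgroup.mem_inf.1 hy
      obtain ⟨hyK, hyB⟩ := Subgroup.mem_inf.1 hy1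
      by_contra hnc'
      have hbig : B ⊔ zpowers e ≤ B := hBmax
        ⟨sup_le hBA (zpowers_le.2 (hEA heE)), y, hyK, (by
          intro b hb
          have hle : B ⊔ zpowers e ≤ centralizer ({y} : Set Y) := sup_le
            (fun b hb => mem_centralizer_singleton_iff.2 (Subgroup.mem_centralizer_iff.1 hyB b hb))
            (zpowers_le.2 (mem_centralizer_singleton_iff.2 (mem_centralizer_singleton_iff.1 hy2).symm))
          exact mem_centralizer_singleton_iff.1 (hle hb)), by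
          by_contra hno
          push Not at hno
          exact hnc' (Subgroup.mem_centralizer_iff.2 fun c hc => (hno c hc).eq)⟩ le_sup_left
      exact he1 (hmemsup e heE (hbig (mem_sup_right (mem_zpowers e))))
    exact hak (Subgroup.mem_centralizer_iff.1 (hall hkK1) a ha)
  have hBc : zpowers a ≤ normalizer (B : Set Y) := le_trans
    (fun u hu => Subgroup.mem_centralizer_iff.2 fun v hv => (hAc v (hBA hv) u (zpowers_le.2 ha hu)).eq)
    (Subgroup.centralizer_le_normalizer _)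
  have hd : zpowers a ⊓ B = ⊥ := by
    refine (Subgroup.eq_bot_iff_forall _).2 fun u hu => ?_
    obtain ⟨⟨i, rfl⟩, hu2⟩ := Subgroup.mem_inf.1 hu
    by_contra hu1
    have h1 : zpowers (a ^ i) = zpowers a := Subgroup.eq_of_le_of_card_ge
      (zpowers_le.2 (zpow_mem (mem_zpowers a) i)) (by
      rw [Nat.card_zpowers, Nat.card_zpowers, hord a ha (fun h => haB (h ▸ one_mem _)),
        hord _ (zpow_mem ha i) hu1])
    exact haB (zpowers_le.2 hu2 (h1 ▸ mem_zpowers a))
  have hc := CfsgLib.Solvable.card_sup_of_disjoint hBc hd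
  rw [Nat.card_zpowers, hord a ha (fun h => haB (h ▸ one_mem _)), sup_comm, ← hA] at hc
  have h2 := (B.subgroupOf A).card_mul_index
  rw [Nat.card_congr (Subgroup.subgroupOfEquivOfLe hBA).toEquiv, hc, mul_comm p] at h2
  exact Nat.eq_of_mul_eq_mul_left Nat.card_pos h2

variable {M : Type u} [Group M] [Finite M]

/-- The lemma. -/
theorem exists_conjugate (hM : Cfsg.IsPSolvable p M) (A : Subgroup M) (hA : IsPGroup p A)
    (hΦ : (frattini ↥A).map A.subtype ≤ Cfsg.pCore p M) (hnot : ¬ A ≤ Cfsg.pCore p M) :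
    ∃ x ∈ (Cfsg.pPrimeCore p (M ⧸ Cfsg.pCore p M)).comap (QuotientGroup.mk' (Cfsg.pCore p M)),
      x ∈ (Cfsg.pResidual p ↥(A ⊔ A.map (MulAut.conj x).toMonoidHom)).map
        (A ⊔ A.map (MulAut.conj x).toMonoidHom).subtype ∧
      (Cfsg.pResidual p ↥(A ⊔ A.map (MulAut.conj x).toMonoidHom)).map
        (A ⊔ A.map (MulAut.conj x).toMonoidHom).subtype ≤
          (Cfsg.pPrimeCore p (M ⧸ Cfsg.pCore p M)).comap (QuotientGroup.mk' (Cfsg.pCore p M)) ∧
      ⁅(Cfsg.pResidual p ↥(A ⊔ A.map (MulAut.conj x).toMonoidHom)).map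
        (A ⊔ A.map (MulAut.conj x).toMonoidHom).subtype, A⁆ =
        (Cfsg.pResidual p ↥(A ⊔ A.map (MulAut.conj x).toMonoidHom)).map
          (A ⊔ A.map (MulAut.conj x).toMonoidHom).subtype ∧
      (A ⊓ (Cfsg.pCore p ↥(A ⊔ A.map (MulAut.conj x).toMonoidHom)).map
        (A ⊔ A.map (MulAut.conj x).toMonoidHom).subtype).relIndex A = p ∧
      ⁅A ⊓ (Cfsg.pCore p ↥(A ⊔ A.map (MulAut.conj x).toMonoidHom)).map
        (A ⊔ A.map (MulAut.conj x).toMonoidHom).subtype,
        A ⊔ A.map (MulAut.conj x).toMonoidHom⁆ ≤ Cfsg.pCore p M := by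
  classical
  have hpr : p.Prime := hp.out
  set R := Cfsg.pCore p M with hR
  haveI hRn : R.Normal := CfsgLib.Solvable.pCore_normal p
  have hRp : IsPGroup p R := CfsgLib.Solvable.isPGroup_pCore p
  set π := QuotientGroup.mk' R with hπ
  have hsurj := QuotientGroup.mk'_surjective R
  set K := Cfsg.pPrimeCore p (M ⧸ R) with hK
  haveI hKn : K.Normal := CfsgLib.Solvable.pPrimeCore_normal p
  have hKco : (Nat.card K).Coprime p := CfsgLib.Solvable.coprime_card_pPrimeCore p
  set Ab := A.map π with hAb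
  have hAbp : IsPGroup p Ab := hA.map π
  obtain ⟨hcom, hpow⟩ := CfsgLib.PGroupBasic.commutator_pow_le_frattini hA
  have hAc : ∀ a ∈ Ab, ∀ b ∈ Ab, Commute a b := by
    rintro _ ⟨x, hx, rfl⟩ _ ⟨y, hy, rfl⟩
    show π x * π y = π y * π x
    rw [← mul_inv_eq_one, ← map_mul, ← map_mul, ← map_inv, ← map_mul]
    refine (QuotientGroup.eq_one_iff _).2 (hΦ
      ⟨(⟨x, hx⟩ : A) * ⟨y, hy⟩ * (⟨y, hy⟩ * ⟨x, hx⟩)⁻¹, hcom ?_, rfl⟩)
    rw [_root_.commutator_def, mul_inv_rev, ← mul_assoc]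
    exact commutator_mem_commutator (mem_top (⟨x, hx⟩ : A)) (mem_top (⟨y, hy⟩ : A))
  have hAe : ∀ a ∈ Ab, a ^ p = 1 := by
    rintro _ ⟨x, hx, rfl⟩
    rw [← map_pow]
    exact (QuotientGroup.eq_one_iff _).2 (hΦ ⟨(⟨x, hx⟩ : A) ^ p, hpow _, rfl⟩)
  have hAbK : Ab ⊓ K = ⊥ := by
    obtain ⟨n, hn⟩ := IsPGroup.iff_card.1 hAbp
    exact disjoint_iff.1 (Subgroup.disjoint_of_coprime_natCard (by rw [hn]; exact hKco.symm.pow_left n))
  have hH0 : Cfsg.pCore p (M ⧸ R) = ⊥ := by
    have hle : (Cfsg.pCore p (M ⧸ R)).comap π ≤ R :=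
      CfsgLib.Solvable.le_pCore p ((CfsgLib.Solvable.pCore_normal p).comap π)
        ((CfsgLib.Solvable.isPGroup_pCore p).comap_of_ker_isPGroup π (by
          rw [QuotientGroup.ker_mk']; exact hRp))
    rw [← map_comap_eq_self_of_surjective hsurj (Cfsg.pCore p (M ⧸ R)),
      Subgroup.map_eq_bot_iff, QuotientGroup.ker_mk']
    exact hle
  obtain ⟨k₀, hk₀, a₀, ha₀, hne⟩ : ∃ k ∈ K, ∃ a ∈ Ab, ¬ Commute a k := by
    by_contra hall
    push Not at hall
    have h1 : Ab ≤ K := fun a ha => FGSA.AbelianSylow.centralizer_pPrimeCore_le hH0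
      (CfsgLib.PConstrained.isPSolvable_map π hsurj hM)
      (Subgroup.mem_centralizer_iff.2 fun k hk => (hall k hk a ha).symm.eq)
    have h2 : Ab = ⊥ := le_bot_iff.1 (hAbK ▸ le_inf le_rfl h1)
    exact hnot (by rwa [hAb, Subgroup.map_eq_bot_iff, QuotientGroup.ker_mk'] at h2)
  obtain ⟨B, hBA, hBidx, k, hk, hBk, a₁, ha₁, hne₁⟩ := exists_hyperplane hAc hAe
    (by rw [Subgroup.normalizer_eq_top K]; exact le_top) hKco hk₀ ha₀ hne
  -- the group generated in the quotient
  set Lb := Ab ⊔ Ab.map (MulAut.conj k).toMonoidHom with hLb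
  have hLbK : Lb ≤ Ab ⊔ K := sup_le le_sup_left (conjmap_le_of_mem le_sup_left (mem_sup_right hk))
  obtain ⟨n, hn⟩ := IsPGroup.iff_card.1 hAbp
  have hSyl : ∀ g ∈ Lb, ∃ a ∈ Ab, ∃ q ∈ K, q ∈ Lb ∧ g = a * q := by
    intro g hg
    obtain ⟨a, ha, q, hq, rfl⟩ := Subgroup.mem_sup_of_normal_right.1 (hLbK hg)
    have h := mul_mem (inv_mem (mem_sup_left ha : a ∈ Lb)) hg
    rw [inv_mul_cancel_left] at h
    exact ⟨a, ha, q, hq, h, rfl⟩
  obtain ⟨y, hyK, hyL, hy⟩ : ∃ y ∈ K, y ∈ Lb ∧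
      Ab.map (MulAut.conj y).toMonoidHom = Ab.map (MulAut.conj k).toMonoidHom := by
    let P₁ : Sylow p Lb := (hAbp.of_equiv (Subgroup.subgroupOfEquivOfLe (le_sup_left : Ab ≤ Lb)).symm).toSylow
      (by
        intro hd
        have hdvd : (Ab.subgroupOf Lb).index ∣ Nat.card K := by
          rw [← Subgroup.relIndex]
          have h1 : Ab.relIndex Lb ∣ Ab.relIndex (Ab ⊔ K) := ⟨_, (Subgroup.relIndex_mul_relIndex _ _ _ le_sup_left hLbK).symm⟩
          refine h1.trans ?_
          have h2 := Subgroup.relIndex_mul_relIndex ⊥ Ab (Ab ⊔ K) bot_le le_sup_left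
          rw [Subgroup.relIndex_bot_left, Subgroup.relIndex_bot_left,
            CfsgLib.Solvable.card_sup_of_disjoint (by rw [Subgroup.normalizer_eq_top K]; exact le_top) hAbK] at h2
          exact (Nat.eq_of_mul_eq_mul_left Nat.card_pos h2).symm ▸ dvd_rfl
        exact hpr.ne_one (Nat.eq_one_of_dvd_coprimes hKco (hd.trans hdvd) dvd_rfl))
    have hA2 : Ab.map (MulAut.conj k).toMonoidHom ≤ Lb := le_sup_right
    obtain ⟨P₂, hP₂⟩ := ((hAbp.map (MulAut.conj k).toMonoidHom).of_equiv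
      (Subgroup.subgroupOfEquivOfLe hA2).symm).exists_le_sylow
    obtain ⟨g, hg⟩ := MulAction.exists_smul_eq Lb P₁ P₂
    obtain ⟨a, ha, q, hq, hqL, hgaq⟩ := hSyl (g⁻¹ : Lb) (g⁻¹ : Lb).2
    refine ⟨q⁻¹, inv_mem hq, inv_mem hqL, (Subgroup.eq_of_le_of_card_ge ?_ (le_of_eq ?_)).symm⟩
    · rintro _ ⟨c, hc, rfl⟩
      have h1 : (⟨_, hA2 ⟨c, hc, rfl⟩⟩ : Lb) ∈ ((g • P₁ : Sylow p Lb) : Subgroup Lb) := by
        rw [hg]; exact hP₂ (Subgroup.mem_subgroupOf.2 ⟨c, hc, rfl⟩)
      rw [Sylow.coe_subgroup_smul, Subgroup.mem_pointwise_smul_iff_inv_smul_mem, MulAut.smul_def,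
        MulAut.inv_def, MulAut.conj_symm_apply] at h1
      have h2 : ((g : Lb) : M ⧸ R)⁻¹ * (MulAut.conj k).toMonoidHom c * ((g : Lb) : M ⧸ R) ∈ Ab := h1
      have hgi : ((g : Lb) : M ⧸ R)⁻¹ = a * q := by rw [← hgaq, Subgroup.coe_inv]
      refine ⟨a⁻¹ * (((g : Lb) : M ⧸ R)⁻¹ * (MulAut.conj k).toMonoidHom c * ((g : Lb) : M ⧸ R)) * a,
        mul_mem (mul_mem (inv_mem ha) h2) ha, ?_⟩
      show q⁻¹ * _ * q⁻¹⁻¹ = _
      rw [show ((g : Lb) : M ⧸ R) = (a * q)⁻¹ by rw [← hgi, inv_inv]]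
      group
    · rw [Subgroup.card_map_of_injective (f := (MulAut.conj q⁻¹).toMonoidHom) (MulEquiv.injective _),
        Subgroup.card_map_of_injective (f := (MulAut.conj k).toMonoidHom) (MulEquiv.injective _)]
  have hLby : Lb = Ab ⊔ Ab.map (MulAut.conj y).toMonoidHom := by rw [hy]
  -- `B` is central in `Lb`
  have hBL : ∀ b ∈ B, ∀ g ∈ Lb, Commute b g := by
    intro b hb g hg
    have hle : Lb ≤ centralizer ({b} : Set (M ⧸ R)) := by
      refine sup_le (fun c hc => mem_centralizer_singleton_iff.2 (hAc c hc b (hBA hb)).eq) ?_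
      rintro _ ⟨c, hc, rfl⟩
      refine mem_centralizer_singleton_iff.2 ?_
      exact (((hBk b hb).mul_right (hAc b (hBA hb) c hc)).mul_right (hBk b hb).inv_right).eq.symm
    exact (mem_centralizer_singleton_iff.1 (hle hg)).symm
  have hay : ¬ Commute a₁ y := by
    intro hcy
    have hle : Ab ≤ centralizer ({y} : Set (M ⧸ R)) := by
      have hA1 : B ⊔ zpowers a₁ ≤ centralizer ({y} : Set (M ⧸ R)) := sup_le
        (fun b hb => mem_centralizer_singleton_iff.2 (hBL b hb y hyL).eq)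
        (zpowers_le.2 (mem_centralizer_singleton_iff.2 hcy.eq))
      have hsup : B ⊔ zpowers a₁ = Ab := by
        refine le_antisymm (sup_le hBA (zpowers_le.2 ha₁)) (Subgroup.relIndex_eq_one.1 ?_)
        have h1 := Subgroup.relIndex_mul_relIndex B (B ⊔ zpowers a₁) Ab le_sup_left
          (sup_le hBA (zpowers_le.2 ha₁))
        rw [hBidx] at h1
        rcases hpr.eq_one_or_self_of_dvd _ ⟨_, h1.symm⟩ with h | h
        · exact absurd (Subgroup.relIndex_eq_one.1 h (mem_sup_right (mem_zpowers a₁))) fun hb =>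
            hne₁ (hBk a₁ hb)
        · rw [h] at h1
          exact Nat.eq_of_mul_eq_mul_left hpr.pos (h1.trans (mul_one p).symm)
      exact hsup ▸ hA1
    have h1 : Ab.map (MulAut.conj k).toMonoidHom = Ab := by
      rw [← hy]
      ext z
      constructor
      · rintro ⟨c, hc, rfl⟩
        have := mem_centralizer_singleton_iff.1 (hle hc)
        show y * c * y⁻¹ ∈ Ab
        rw [← this, mul_inv_cancel_right]; exact hc
      · intro hz
        refine ⟨z, hz, ?_⟩
        show y * z * y⁻¹ = z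
        rw [← mem_centralizer_singleton_iff.1 (hle hz), mul_inv_cancel_right]
    have h2 : k * a₁ * k⁻¹ * a₁⁻¹ ∈ Ab ⊓ K := Subgroup.mem_inf.2
      ⟨mul_mem (h1 ▸ mem_map_of_mem (MulAut.conj k).toMonoidHom ha₁) (inv_mem ha₁), by
        rw [show k * a₁ * k⁻¹ * a₁⁻¹ = k * (a₁ * k⁻¹ * a₁⁻¹) by group]
        exact mul_mem hk (hKn.conj_mem _ (inv_mem hk) a₁)⟩
    rw [hAbK, mem_bot] at h2
    exact hne₁ ((mul_inv_eq_iff_eq_mul.1 (mul_inv_eq_one.1 h2)).symm)
  -- the smallest group over a lift of `y`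
  let Lof : M → Subgroup M := fun x => A ⊔ A.map (MulAut.conj x).toMonoidHom
  obtain ⟨x₀, hx₀y, hmin⟩ : ∃ x, π x = y ∧ ∀ x', π x' = y → Nat.card (Lof x) ≤ Nat.card (Lof x') := by
    obtain ⟨x, hx⟩ := hsurj y
    haveI : Nonempty {z : M // π z = y} := ⟨⟨x, hx⟩⟩
    obtain ⟨⟨z, hz⟩, hzmin⟩ :=
      Finite.exists_min (fun z : {z : M // π z = y} => Nat.card (Lof z))
    exact ⟨z, hz, fun x' hx' => hzmin ⟨x', hx'⟩⟩
  have hLmap : ∀ x, π x = y → (Lof x).map π = Lb := by
    intro x hx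
    rw [Subgroup.map_sup, Subgroup.map_map, hLby, hAb, Subgroup.map_map]
    congr 2
    refine MonoidHom.ext fun c => ?_
    show π (x * c * x⁻¹) = y * π c * y⁻¹
    rw [map_mul, map_mul, map_inv, hx]
  obtain ⟨x₁, hx₁, hx₁y⟩ : ∃ x₁ ∈ (Cfsg.pResidual p ↥(Lof x₀)).map (Lof x₀).subtype, π x₁ = y := by
    have hyo : (orderOf y).Coprime p := hKco.coprime_dvd_left (Subgroup.orderOf_dvd_natCard K hyK)
    obtain ⟨l, hl, hly⟩ : y ∈ (Lof x₀).map π := hLmap x₀ hx₀y ▸ hyL
    set e := p ^ (orderOf (⟨l, hl⟩ : Lof x₀)).factorization p with he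
    obtain ⟨i, hi⟩ := exists_pow_eq_self_of_coprime (x := y) (n := e) (hyo.symm.pow_left _)
    have hle' : l ^ e ∈ (Cfsg.pResidual p ↥(Lof x₀)).map (Lof x₀).subtype :=
      ⟨_, PResidual.pow_mem_pResidual hpr (⟨l, hl⟩ : Lof x₀), rfl⟩
    exact ⟨(l ^ e) ^ i, pow_mem hle' i, by rw [map_pow, map_pow, hly, hi]⟩
  have hx₁L : x₁ ∈ Lof x₀ := Subgroup.map_subtype_le _ hx₁
  have hLeq : Lof x₁ = Lof x₀ :=
    Subgroup.eq_of_le_of_card_ge (sup_le le_sup_left (conjmap_le_of_mem le_sup_left hx₁L))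
      (hmin x₁ hx₁y)
  have hx₁' : x₁ ∈ (Cfsg.pResidual p ↥(Lof x₁)).map (Lof x₁).subtype := by
    rw [hLeq]; exact hx₁
  refine ⟨x₁, by rw [Subgroup.mem_comap, hx₁y]; exact hyK, hx₁', ?_, ?_, ?_, ?_⟩
  all_goals
    set L := A ⊔ A.map (MulAut.conj x₁).toMonoidHom with hL
    set O := (Cfsg.pResidual p ↥L).map L.subtype with hO
    have hxO : x₁ ∈ O := hx₁'
    have hLx : L.map π = Lb := hLmap x₁ hx₁y
  · -- `O^p(L)` lies over `K`
    rw [hO, Subgroup.map_le_iff_le_comap, Cfsg.pResidual, Subgroup.closure_le]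
    intro g hg
    rw [SetLike.mem_coe, Subgroup.mem_comap, Subgroup.mem_comap]
    have hgo : (orderOf (π (g : M))).Coprime p := by
      refine Nat.Coprime.coprime_dvd_left ((orderOf_map_dvd π (g : M)).trans ?_) hg
      rw [Subgroup.orderOf_coe]
    obtain ⟨c, hc, q, hq, hcq⟩ := Subgroup.mem_sup_of_normal_right.1
      (hLbK (hLx ▸ mem_map_of_mem π g.2))
    have h1 : (QuotientGroup.mk' K) (π (g : M)) = 1 := by
      refine orderOf_eq_one_iff.1 (Nat.eq_one_of_dvd_coprimes hgo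
        (orderOf_map_dvd (QuotientGroup.mk' K) _) ?_)
      rw [← hcq, map_mul, show QuotientGroup.mk' K q = 1 from (QuotientGroup.eq_one_iff q).2 hq, mul_one]
      exact (orderOf_map_dvd _ c).trans (orderOf_dvd_of_pow_eq_one (hAe c hc))
    exact (QuotientGroup.eq_one_iff _).1 h1
  · -- `[O^p(L), A] = O^p(L)`
    have hAL : A ≤ L := le_sup_left
    haveI : (Cfsg.pResidual p ↥L).Normal := PResidual.pResidual_normal p
    have hnormO : ∀ g ∈ L, ∀ o ∈ O, g * o * g⁻¹ ∈ O := by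
      rintro g hg _ ⟨o, ho, rfl⟩
      exact ⟨_, (PResidual.pResidual_normal p).conj_mem o ho ⟨g, hg⟩, rfl⟩
    set N := ⁅O, A⁆ with hN
    have hNO : N ≤ O := by
      rw [hN, Subgroup.commutator_le]
      intro o ho a ha
      rw [commutatorElement_def, show o * a * o⁻¹ * a⁻¹ = o * (a * o⁻¹ * a⁻¹) by group]
      exact mul_mem ho (hnormO a (hAL ha) _ (inv_mem ho))
    refine le_antisymm hNO ?_
    have hNnorm : A ≤ normalizer (N : Set M) := by
      have hf : ∀ a ∈ A, ∀ z ∈ N, a * z * a⁻¹ ∈ N := by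
        intro a ha z hz
        have h1 : N.map (MulAut.conj a).toMonoidHom ≤ N := by
          rw [hN, Subgroup.map_commutator]
          refine Subgroup.commutator_mono ?_ ?_
          · rintro _ ⟨o, ho, rfl⟩; exact hnormO a (hAL ha) o ho
          · rintro _ ⟨b, hb, rfl⟩; exact mul_mem (mul_mem ha hb) (inv_mem ha)
        exact h1 ⟨z, hz, rfl⟩
      intro a ha
      refine Subgroup.mem_normalizer_iff.2 fun z => ⟨hf a ha z, fun hz => ?_⟩
      simpa [mul_assoc] using hf a⁻¹ (inv_mem ha) _ hz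
    have hdec : ∀ g ∈ L, ∃ a ∈ A, ∃ z ∈ N, g = a * z := by
      intro g hg
      have hle : L ≤ A ⊔ N := by
        refine sup_le le_sup_left ?_
        rintro _ ⟨a, ha, rfl⟩
        show x₁ * a * x₁⁻¹ ∈ A ⊔ N
        rw [show x₁ * a * x₁⁻¹ = (x₁ * a * x₁⁻¹ * a⁻¹) * a by group]
        exact mul_mem (mem_sup_right (Subgroup.commutator_mem_commutator hxO ha)) (mem_sup_left ha)
      have := hle hg
      rw [← SetLike.mem_coe, Subgroup.coe_mul_of_left_le_normalizer_right _ _ hNnorm] at this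
      obtain ⟨a, ha, z, hz, e⟩ := Set.mem_mul.1 this
      exact ⟨a, ha, z, hz, e.symm⟩
    rw [hO, Subgroup.map_le_iff_le_comap, Cfsg.pResidual, Subgroup.closure_le]
    intro g hg
    rw [SetLike.mem_coe, Subgroup.mem_comap]
    obtain ⟨a, ha, z, hz, hgz⟩ := hdec g g.2
    have hpowmem : ∀ i : ℕ, ∃ z' ∈ N, (a * z) ^ i = a ^ i * z' := by
      intro i
      induction i with
      | zero => exact ⟨1, one_mem _, by simp⟩
      | succ i ih =>
        obtain ⟨z', hz', e⟩ := ih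
        refine ⟨a⁻¹ * z' * a * z, mul_mem ((Subgroup.mem_normalizer_iff''.1 (hNnorm ha) z').1 hz') hz, ?_⟩
        rw [pow_succ (a * z), e, pow_succ a]; group
    obtain ⟨e, he⟩ := IsPGroup.iff_orderOf.1 hA ⟨a, ha⟩
    rw [Subgroup.orderOf_mk] at he
    obtain ⟨z', hz', hzz⟩ := hpowmem (p ^ e)
    obtain ⟨i, hi⟩ := exists_pow_eq_self_of_coprime (x := (g : M)) (n := p ^ e) (by
      rw [Subgroup.orderOf_coe]; exact (Nat.Coprime.pow_left e hg.symm))
    show (g : M) ∈ N
    rw [← hi, hgz, hzz, ← he, pow_orderOf_eq_one, one_mul]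
    exact pow_mem hz' i
  all_goals
    have hcore : A ⊓ (Cfsg.pCore p ↥L).map L.subtype = A ⊓ B.comap π := by
      apply le_antisymm
      · refine le_inf inf_le_left fun g hg => ?_
        obtain ⟨hgA, hgC⟩ := Subgroup.mem_inf.1 hg
        rw [Subgroup.mem_comap]
        set C := ((Cfsg.pCore p ↥L).map L.subtype).map π with hC
        have hCp : IsPGroup p C := ((CfsgLib.Solvable.isPGroup_pCore p).map _).map _
        have hCn : ∀ c ∈ C, y * c * y⁻¹ ∈ C := by
          rintro _ ⟨_, ⟨c, hc, rfl⟩, rfl⟩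
          have hxL : x₁ ∈ L := Subgroup.map_subtype_le _ hxO
          refine ⟨_, ⟨_, (CfsgLib.Solvable.pCore_normal p).conj_mem c hc ⟨x₁, hxL⟩, rfl⟩, ?_⟩
          show π (x₁ * (c : M) * x₁⁻¹) = _
          rw [map_mul, map_mul, map_inv, hx₁y]; rfl
        have hgB : Commute (π g) y := by
          have h1 : y * π g * y⁻¹ * (π g)⁻¹ ∈ C ⊓ K := Subgroup.mem_inf.2
            ⟨mul_mem (hCn _ (mem_map_of_mem π hgC)) (inv_mem (mem_map_of_mem π hgC)), by
              rw [show y * π g * y⁻¹ * (π g)⁻¹ = y * (π g * y⁻¹ * (π g)⁻¹) by group]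
              exact mul_mem hyK (hKn.conj_mem _ (inv_mem hyK) _)⟩
          obtain ⟨j, hj⟩ := IsPGroup.iff_card.1 hCp
          have hd := disjoint_iff.1 (Subgroup.disjoint_of_coprime_natCard (H := C) (K := K)
            (by rw [hj]; exact hKco.symm.pow_left j))
          rw [hd, mem_bot] at h1
          exact (mul_inv_eq_iff_eq_mul.1 (mul_inv_eq_one.1 h1)).symm
        by_contra hgn
        apply hay
        have hle : B ⊔ zpowers (π g) ≤ centralizer ({y} : Set (M ⧸ R)) := sup_le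
          (fun b hb => mem_centralizer_singleton_iff.2 (hBL b hb y hyL).eq)
          (zpowers_le.2 (mem_centralizer_singleton_iff.2 hgB.eq))
        have hsup : B ⊔ zpowers (π g) = Ab := by
          refine le_antisymm (sup_le hBA (zpowers_le.2 (mem_map_of_mem π hgA))) (Subgroup.relIndex_eq_one.1 ?_)
          have h1 := Subgroup.relIndex_mul_relIndex B (B ⊔ zpowers (π g)) Ab le_sup_left
            (sup_le hBA (zpowers_le.2 (mem_map_of_mem π hgA)))
          rw [hBidx] at h1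
          rcases hpr.eq_one_or_self_of_dvd _ ⟨_, h1.symm⟩ with h | h
          · exact absurd (Subgroup.relIndex_eq_one.1 h (mem_sup_right (mem_zpowers (π g)))) hgn
          · rw [h] at h1
            exact Nat.eq_of_mul_eq_mul_left hpr.pos (h1.trans (mul_one p).symm)
        exact mem_centralizer_singleton_iff.1 (hle (hsup.symm ▸ ha₁))
      · refine le_inf inf_le_left fun g hg => ?_
        obtain ⟨hgA, hgB⟩ := Subgroup.mem_inf.1 hg
        let f : ↥L →* M ⧸ R := π.comp L.subtype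
        refine ⟨⟨g, mem_sup_left hgA⟩, CfsgLib.Solvable.le_pCore p (N := B.comap f) ?_ ?_
          (Subgroup.mem_comap.2 hgB), rfl⟩
        · refine ⟨fun c hc l => ?_⟩
          rw [Subgroup.mem_comap] at hc ⊢
          rw [map_mul, map_mul, map_inv,
            ← (hBL _ hc (f l) (hLx ▸ mem_map_of_mem π l.2)).eq, mul_inv_cancel_right]
          exact hc
        · refine (hAbp.to_le hBA).comap_of_ker_isPGroup f ?_
          intro c
          have hcR : ((c : ↥L) : M) ∈ R := (QuotientGroup.eq_one_iff _).1 (MonoidHom.mem_ker.1 c.2)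
          obtain ⟨j, hj⟩ := hRp ⟨_, hcR⟩
          exact ⟨j, Subtype.ext (Subtype.ext (by simpa using congrArg Subtype.val hj))⟩
  · rw [hcore, Subgroup.inf_relIndex_left, Subgroup.relIndex_comap]
    exact hBidx
  · rw [hcore, Subgroup.commutator_le]
    intro g hg l hl
    rw [← QuotientGroup.eq_one_iff]
    change π (g * l * g⁻¹ * l⁻¹) = 1
    rw [map_mul, map_mul, map_mul, map_inv, map_inv, ← commutatorElement_def,
      commutatorElement_eq_one_iff_mul_comm]
    exact (hBL _ (Subgroup.mem_inf.1 hg).2 _ (hLx ▸ mem_map_of_mem π hl)).eq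

end CfsgLib.PSoluble.TwoConj
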